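/-
Equivariant solvable signalizer functors on a group with connected rank-two commuting graph:
given the solvable signalizer functor theorem for `G` (as a hypothesis), the functor is trivial.
-/
import Cfsg.Agent.Lib.Coprime.Generation
import Cfsg.Agent.Lib.Core.Basic
import Cfsg.Prelude.Def_Balance

set_option autoImplicit false
set_option linter.unusedSectionVars false

namespace Cfsg.Agent.Lib.EqFun.Basic

open Subgroup Cfsg Cfsg.Agent.Lib.Core.Basic

universe u

/-- The solvable signalizer functor theorem for one group and one prime, as a proposition. -/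
def SSFTOn (G : Type u) [Group G] (p : ℕ) : Prop :=
  ∀ (A : Subgroup G) (_ : ∀ a ∈ A, ∀ b ∈ A, a * b = b * a) (_ : ∀ a ∈ A, a ^ p = 1)
    (_ : p ^ 3 ≤ Nat.card A) (θ : G → Subgroup G)
    (_ : ∀ a ∈ A, a ≠ 1 → θ a ≤ Subgroup.centralizer {a})
    (_ : ∀ a ∈ A, a ≠ 1 → ¬ p ∣ Nat.card (θ a))
    (_ : ∀ a ∈ A, a ≠ 1 → ∀ b ∈ A, ∀ x ∈ θ a, b * x * b⁻¹ ∈ θ a)
    (_ : ∀ a ∈ A, a ≠ 1 → Group.IsSolvable (θ a))
    (_ : ∀ a ∈ A, a ≠ 1 → ∀ b ∈ A, b ≠ 1 → θ a ⊓ Subgroup.centralizer {b} ≤ θ b),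
    ¬ p ∣ Nat.card ↥(⨆ a : {a : G // a ∈ A ∧ a ≠ 1}, θ a) ∧
      ∀ a ∈ A, a ≠ 1 → (⨆ b : {a : G // a ∈ A ∧ a ≠ 1}, θ b) ⊓ Subgroup.centralizer {a} = θ a

variable {G : Type u} [Group G] [Finite G] {p : ℕ} [Fact p.Prime]

/-- The elements to which a functor as in the statement assigns a subgroup. -/
def Adm (p : ℕ) (a : G) : Prop :=
  orderOf a = p ∧ ¬ PRankLE p 2 ↥(Subgroup.centralizer ({a} : Set G))

/-- Commuting elements of exponent `p`. -/
structure EA (p : ℕ) (E : Subgroup G) : Prop where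
  comm : ∀ a ∈ E, ∀ b ∈ E, a * b = b * a
  exp : ∀ a ∈ E, a ^ p = 1

theorem EA.isEA {E : Subgroup G} (h : EA p E) : IsElementaryAbelian p E :=
  ⟨⟨⟨fun a b => Subtype.ext (h.comm a a.2 b b.2)⟩⟩, h.exp⟩

theorem EA.ofIs {E : Subgroup G} (h : IsElementaryAbelian p E) : EA p E :=
  ⟨fun a ha b hb => by
    have := h.1
    exact setLike_mul_comm ha hb, h.2⟩

theorem EA.isPGroup {E : Subgroup G} (h : EA p E) : IsPGroup p E := by
  intro a
  refine ⟨1, Subtype.ext ?_⟩
  simpa using h.exp a a.2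

/-- The order of an elementary abelian group in a range. -/
theorem EA.card_pow {E : Subgroup G} (h : EA p E) {k : ℕ} (hk : p ^ k < Nat.card E) :
    p ^ (k + 1) ≤ Nat.card E := by
  have hp : p.Prime := Fact.out
  obtain ⟨n, hn⟩ := IsPGroup.iff_card.mp h.isPGroup
  rw [hn] at hk ⊢
  exact Nat.pow_le_pow_right hp.pos ((Nat.pow_lt_pow_iff_right hp.one_lt).mp hk)

theorem EA.sup {E D : Subgroup G} (hE : EA p E) (hD : EA p D)
    (hc : ∀ a ∈ E, ∀ b ∈ D, a * b = b * a) : EA p (E ⊔ D) := by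
  have h1 : E ⊔ D ≤ centralizer ((E ⊔ D : Subgroup G) : Set G) := by
    have h2 : E ⊔ D ≤ centralizer ((E : Set G) ∪ (D : Set G)) := by
      apply sup_le
      · intro x hx
        rw [mem_centralizer_iff]
        rintro y (hy | hy)
        · exact hE.comm y hy x hx
        · exact (hc x hx y hy).symm
      · intro x hx
        rw [mem_centralizer_iff]
        rintro y (hy | hy)
        · exact hc y hy x hx
        · exact hD.comm y hy x hx
    apply sup_le
    · intro x hx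
      rw [mem_centralizer_iff]
      intro y hy
      have := mem_centralizer_iff.mp (h2 hy) x (Or.inl hx)
      exact this.symm
    · intro x hx
      rw [mem_centralizer_iff]
      intro y hy
      have := mem_centralizer_iff.mp (h2 hy) x (Or.inr hx)
      exact this.symm
  have hcomm : ∀ a ∈ E ⊔ D, ∀ b ∈ E ⊔ D, a * b = b * a := fun a ha b hb =>
    (mem_centralizer_iff.mp (h1 ha) b hb).symm
  refine ⟨hcomm, ?_⟩
  have hcl : closure ((E : Set G) ∪ (D : Set G)) = E ⊔ D := by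
    rw [Subgroup.closure_union, closure_eq, closure_eq]
  intro x hx
  rw [← hcl] at hx
  induction hx using closure_induction with
  | mem x hx =>
    rcases hx with h | h
    · exact hE.exp x h
    · exact hD.exp x h
  | one => simp
  | mul x y hx hy ihx ihy =>
    have hxy : Commute x y := hcomm x (hcl ▸ hx) y (hcl ▸ hy)
    rw [hxy.mul_pow, ihx, ihy, one_mul]
  | inv x hx ih => simp [ih]

theorem EA.map {E : Subgroup G} (h : EA p E) (g : G) :
    EA p (E.map (MulAut.conj g).toMonoidHom) := by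
  constructor
  · rintro _ ⟨a, ha, rfl⟩ _ ⟨b, hb, rfl⟩
    show (MulAut.conj g) a * (MulAut.conj g) b = (MulAut.conj g) b * (MulAut.conj g) a
    rw [← map_mul, ← map_mul, h.comm a ha b hb]
  · rintro _ ⟨a, ha, rfl⟩
    show ((MulAut.conj g) a) ^ p = 1
    rw [← map_pow, h.exp a ha, map_one]

theorem card_map_conj (E : Subgroup G) (g : G) :
    Nat.card (E.map (MulAut.conj g).toMonoidHom) = Nat.card E :=
  Nat.card_congr (E.equivMapOfInjective _ (MulAut.conj g).injective).toEquiv.symm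

theorem not_pRankLE {E H : Subgroup G} (hEH : E ≤ H) (hE : EA p E) (h3 : p ^ 3 ≤ Nat.card E) :
    ¬ PRankLE p 2 ↥H := by
  intro h
  have h1 := h (E.subgroupOf H)
    ⟨⟨fun a b => Subtype.ext (Subtype.ext
      (hE.comm _ (mem_subgroupOf.mp a.2) _ (mem_subgroupOf.mp b.2)))⟩⟩
    (fun a ha => Subtype.ext (by simpa using hE.exp _ (mem_subgroupOf.mp ha)))
  have e : Nat.card (E.subgroupOf H) = Nat.card E :=
    Nat.card_congr (subgroupOfEquivOfLe hEH).toEquiv
  rw [e] at h1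
  have hp := (Fact.out : p.Prime).one_lt
  exact absurd (h3.trans h1) (not_le.mpr (Nat.pow_lt_pow_right hp (by norm_num)))

theorem exists_EA {H : Subgroup G} (h : ¬ PRankLE p 2 ↥H) :
    ∃ D : Subgroup G, D ≤ H ∧ EA p D ∧ p ^ 3 ≤ Nat.card D := by
  unfold PRankLE at h
  push Not at h
  obtain ⟨A, hc, he, hcard⟩ := h
  have hEA : EA p (A.map H.subtype) := by
    constructor
    · rintro _ ⟨a, ha, rfl⟩ _ ⟨b, hb, rfl⟩
      exact congrArg Subtype.val (setLike_mul_comm ha hb)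
    · rintro _ ⟨a, ha, rfl⟩
      exact congrArg Subtype.val (he a ha)
  have e : Nat.card (A.map H.subtype) = Nat.card A :=
    Nat.card_congr (A.equivMapOfInjective _ H.subtype_injective).toEquiv.symm
  refine ⟨A.map H.subtype, ?_, hEA, ?_⟩
  · rintro _ ⟨a, -, rfl⟩
    exact a.2
  · apply hEA.card_pow
    rwa [e]

theorem adm_of_mem {E : Subgroup G} (hE : EA p E) (h3 : p ^ 3 ≤ Nat.card E) {a : G} (ha : a ∈ E)
    (ha1 : a ≠ 1) : Adm p a := by
  refine ⟨orderOf_eq_prime (hE.exp a ha) ha1, not_pRankLE (E := E) ?_ hE h3⟩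
  intro x hx
  rw [mem_centralizer_iff]
  intro y hy
  rw [Set.mem_singleton_iff.mp hy]
  exact hE.comm a ha x hx

theorem EA.not_isCyclic {B : Subgroup G} (hB : EA p B) (h2 : p ^ 2 ≤ Nat.card B) : ¬ IsCyclic B := by
  intro hc
  have hp : p.Prime := Fact.out
  obtain ⟨g, hg⟩ := IsCyclic.exists_generator (α := B)
  have h1 : orderOf g = Nat.card B := orderOf_eq_card_of_forall_mem_zpowers hg
  have h2' : g ^ p = 1 := Subtype.ext (by simpa using hB.exp g g.2)
  have h3 : orderOf g ≤ p := Nat.le_of_dvd hp.pos (orderOf_dvd_of_pow_eq_one h2')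
  rw [h1] at h3
  have h4 : p ^ 2 ≤ p := h2.trans h3
  have h5 : p ^ 1 < p ^ 2 := Nat.pow_lt_pow_right hp.one_lt (by norm_num)
  rw [pow_one] at h5
  omega

/-- The hypotheses on a functor. -/
structure Fun (p : ℕ) (θ : G → Subgroup G) : Prop where
  hC : ∀ a : G, Adm p a →
    θ a ≤ Subgroup.centralizer ({a} : Set G) ∧ ¬ p ∣ Nat.card ↥(θ a) ∧ Group.IsSolvable ↥(θ a)
  heq : ∀ a g : G, Adm p a → θ (g * a * g⁻¹) = (θ a).map (MulAut.conj g).toMonoidHom
  hbal : ∀ a b : G, Adm p a → Adm p b → a * b = b * a → θ a ⊓ Subgroup.centralizer {b} ≤ θ b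

/-- The join of the `θ a`, `a ∈ E` non-identity. -/
def W (θ : G → Subgroup G) (E : Subgroup G) : Subgroup G :=
  ⨆ a : {a : G // a ∈ E ∧ a ≠ 1}, θ a

theorem le_W (θ : G → Subgroup G) {E : Subgroup G} {a : G} (ha : a ∈ E) (ha1 : a ≠ 1) :
    θ a ≤ W θ E :=
  le_iSup (fun a : {a : G // a ∈ E ∧ a ≠ 1} => θ a) ⟨a, ha, ha1⟩

variable {θ : G → Subgroup G}

theorem Fun.conj_mem (F : Fun p θ) {a b x : G} (ha : Adm p a) (hab : b * a = a * b)
    (hx : x ∈ θ a) : b * x * b⁻¹ ∈ θ a := by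
  have h1 := F.heq a b ha
  have h2 : b * a * b⁻¹ = a := by rw [hab]; group
  rw [h2] at h1
  rw [h1]
  exact ⟨x, hx, rfl⟩

theorem closure_spec (hS : SSFTOn G p) (F : Fun p θ) {E : Subgroup G} (hE : EA p E)
    (h3 : p ^ 3 ≤ Nat.card E) :
    ¬ p ∣ Nat.card ↥(W θ E) ∧ ∀ a ∈ E, a ≠ 1 → W θ E ⊓ Subgroup.centralizer {a} = θ a := by
  refine hS E hE.comm hE.exp h3 θ ?_ ?_ ?_ ?_ ?_
  · intro a ha ha1
    exact (F.hC a (adm_of_mem hE h3 ha ha1)).1
  · intro a ha ha1
    exact (F.hC a (adm_of_mem hE h3 ha ha1)).2.1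
  · intro a ha ha1 b hb x hx
    exact F.conj_mem (adm_of_mem hE h3 ha ha1) (hE.comm b hb a ha) hx
  · intro a ha ha1
    exact (F.hC a (adm_of_mem hE h3 ha ha1)).2.2
  · intro a ha ha1 b hb hb1
    exact F.hbal a b (adm_of_mem hE h3 ha ha1) (adm_of_mem hE h3 hb hb1) (hE.comm a ha b hb)

theorem W_normalized (F : Fun p θ) {E : Subgroup G} (hE : EA p E) (h3 : p ^ 3 ≤ Nat.card E) :
    E ≤ normalizer (W θ E : Set G) := by
  intro b hb
  apply mem_normalizer_fintype
  intro n hn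
  have h1 : W θ E ≤ (W θ E).comap (MulAut.conj b).toMonoidHom := by
    apply iSup_le
    rintro ⟨a, ha, ha1⟩ x hx
    exact le_W θ ha ha1 (F.conj_mem (adm_of_mem hE h3 ha ha1) (hE.comm b hb a ha) hx)
  exact h1 hn

theorem W_eq (hS : SSFTOn G p) (F : Fun p θ) {E B : Subgroup G} (hE : EA p E)
    (h3 : p ^ 3 ≤ Nat.card E) (hBE : B ≤ E) (h2 : p ^ 2 ≤ Nat.card B) : W θ B = W θ E := by
  have hp : p.Prime := Fact.out
  have hB : EA p B := ⟨fun a ha b hb => hE.comm a (hBE ha) b (hBE hb), fun a ha => hE.exp a (hBE ha)⟩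
  apply le_antisymm
  · apply iSup_le
    rintro ⟨a, ha, ha1⟩
    exact le_W θ (hBE ha) ha1
  · obtain ⟨hp', hfix⟩ := closure_spec hS F hE h3
    have : IsMulCommutative B := hB.isEA.1
    have hcop : (Nat.card B).Coprime (Nat.card ↥(W θ E)) := by
      obtain ⟨k, hk⟩ := IsPGroup.iff_card.mp hB.isPGroup
      rw [hk]
      exact Nat.Coprime.pow_left k ((Nat.Prime.coprime_iff_not_dvd hp).mpr hp')
    have h4 := Cfsg.Agent.Lib.Coprime.Generation.iSup_centralizer_eq (hB.not_isCyclic h2)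
      ((hBE).trans (W_normalized F hE h3)) hcop
    rw [← h4]
    apply iSup₂_le
    rintro a ⟨ha, ha1⟩
    rw [hfix a (hBE ha) ha1]
    exact le_W θ ha ha1

/-- A vertex lies in a large elementary abelian group. -/
theorem vertex_spec {B : Subgroup G} (hB : IsRankGraphVertex p 2 B) :
    EA p B ∧ p ^ 2 ≤ Nat.card B ∧ ∃ E, B ≤ E ∧ EA p E ∧ p ^ 3 ≤ Nat.card E := by
  have hBE := EA.ofIs hB.1
  refine ⟨hBE, hB.2.1, ?_⟩
  obtain ⟨D, hDC, hD, hD3⟩ := exists_EA hB.2.2
  refine ⟨B ⊔ D, le_sup_left, hBE.sup hD ?_, hD3.trans (Subgroup.card_le_of_le le_sup_right)⟩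
  intro a ha b hb
  exact mem_centralizer_iff.mp (hDC hb) a ha

theorem W_eq_of_adj (hS : SSFTOn G p) (F : Fun p θ) {X Y : Subgroup G}
    (hX : IsRankGraphVertex p 2 X) (hY : IsRankGraphVertex p 2 Y)
    (hc : ∀ a ∈ X, ∀ b ∈ Y, a * b = b * a) : W θ X = W θ Y := by
  have hEA := (EA.ofIs hX.1).sup (EA.ofIs hY.1) hc
  by_cases h3 : p ^ 3 ≤ Nat.card ↥(X ⊔ Y)
  · rw [W_eq hS F hEA h3 le_sup_left hX.2.1, W_eq hS F hEA h3 le_sup_right hY.2.1]
  · have h4 : Nat.card ↥(X ⊔ Y) ≤ p ^ 2 := by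
      by_contra h5
      push Not at h5
      exact h3 (hEA.card_pow h5)
    have e1 : X = X ⊔ Y := Subgroup.eq_of_le_of_card_ge le_sup_left (h4.trans hX.2.1)
    have e2 : Y = X ⊔ Y := Subgroup.eq_of_le_of_card_ge le_sup_right (h4.trans hY.2.1)
    rw [e1.trans e2.symm]

theorem W_conn (hS : SSFTOn G p) (F : Fun p θ) (hconn : IsRankGraphConnected p 2 G) {X Y : Subgroup G}
    (hX : IsRankGraphVertex p 2 X) (hY : IsRankGraphVertex p 2 Y) : W θ X = W θ Y := by
  have h := hconn X Y hX hY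
  induction h with
  | refl => rfl
  | tail _ hbc ih =>
    rw [ih hbc.1]
    exact W_eq_of_adj hS F hbc.1 hbc.2.1 hbc.2.2

theorem vertex_conj {B : Subgroup G} (hB : IsRankGraphVertex p 2 B) (g : G) :
    IsRankGraphVertex p 2 (B.map (MulAut.conj g).toMonoidHom) := by
  have hBE := EA.ofIs hB.1
  refine ⟨(hBE.map g).isEA, by rw [card_map_conj]; exact hB.2.1, ?_⟩
  obtain ⟨D, hDC, hD, hD3⟩ := exists_EA hB.2.2
  apply not_pRankLE (E := D.map (MulAut.conj g).toMonoidHom) _ (hD.map g)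
    (by rw [card_map_conj]; exact hD3)
  rintro _ ⟨d, hd, rfl⟩
  rw [mem_centralizer_iff]
  rintro _ ⟨b, hb, rfl⟩
  show (MulAut.conj g) b * (MulAut.conj g) d = (MulAut.conj g) d * (MulAut.conj g) b
  rw [← map_mul, ← map_mul, mem_centralizer_iff.mp (hDC hd) b hb]

theorem W_conj (F : Fun p θ) {B : Subgroup G} (hB : IsRankGraphVertex p 2 B) (g : G) :
    W θ (B.map (MulAut.conj g).toMonoidHom) = (W θ B).map (MulAut.conj g).toMonoidHom := by
  obtain ⟨hBE, -, E, hBE', hE, h3⟩ := vertex_spec hB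
  have hadm : ∀ b ∈ B, b ≠ 1 → Adm p b := fun b hb hb1 => adm_of_mem hE h3 (hBE' hb) hb1
  apply le_antisymm
  · apply iSup_le
    rintro ⟨_, ⟨b, hb, rfl⟩, ha1⟩
    have hb1 : b ≠ 1 := by
      rintro rfl
      exact ha1 (map_one _)
    show θ (g * b * g⁻¹) ≤ _
    rw [F.heq b g (hadm b hb hb1)]
    exact Subgroup.map_mono (le_W θ hb hb1)
  · rw [W, Subgroup.map_iSup]
    apply iSup_le
    rintro ⟨b, hb, hb1⟩
    show (θ b).map _ ≤ _
    rw [← F.heq b g (hadm b hb hb1)]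
    refine le_W θ (a := g * b * g⁻¹) ⟨b, hb, rfl⟩ ?_
    intro h
    apply hb1
    have : g⁻¹ * (g * b * g⁻¹) * g = b := by group
    rw [← this, h]
    group

/-- The functor is trivial, granted the solvable signalizer functor theorem for `G`. -/
theorem functor_trivial (hS : SSFTOn G p) (hO : pPrimeCore p G = ⊥)
    (hconn : IsRankGraphConnected p 2 G) (F : Fun p θ) {a : G} (ha : Adm p a) : θ a = ⊥ := by
  have hp : p.Prime := Fact.out
  -- a vertex through `a`
  obtain ⟨D, hDC, hD, hD3⟩ := exists_EA ha.2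
  have haz : zpowers a ≤ centralizer (D : Set G) := by
    rw [zpowers_le, mem_centralizer_iff]
    intro d hd
    exact (mem_centralizer_iff.mp (hDC hd) a rfl).symm
  have ha1 : a ≠ 1 := by
    rintro rfl
    have h1 := ha.1
    rw [orderOf_one] at h1
    exact hp.one_lt.ne h1
  have hZ : EA p (zpowers a) := by
    constructor
    · rintro _ ⟨m, rfl⟩ _ ⟨n, rfl⟩
      exact Commute.zpow_zpow_self a m n
    · rintro _ ⟨m, rfl⟩
      show (a ^ m) ^ p = 1
      rw [← zpow_natCast, ← zpow_mul, mul_comm, zpow_mul, zpow_natCast, ← ha.1, pow_orderOf_eq_one,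
        one_zpow]
  have hE : EA p (zpowers a ⊔ D) := hZ.sup hD (fun x hx y hy => by
    have := mem_centralizer_iff.mp (haz hx) y hy
    exact this.symm)
  have hE3 : p ^ 3 ≤ Nat.card ↥(zpowers a ⊔ D) := hD3.trans (Subgroup.card_le_of_le le_sup_right)
  -- choose `d ∈ D` outside `⟨a⟩`
  have hex : ∃ d ∈ D, d ∉ zpowers a := by
    by_contra hcon
    push Not at hcon
    have h1 : Nat.card D ≤ Nat.card (zpowers a) := Subgroup.card_le_of_le hcon
    rw [Nat.card_zpowers, ha.1] at h1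
    have h5 : p ^ 1 < p ^ 3 := Nat.pow_lt_pow_right hp.one_lt (by norm_num)
    rw [pow_one] at h5
    omega
  obtain ⟨d, hdD, hd⟩ := hex
  -- `B = ⟨a, d⟩`
  have hZd : EA p (zpowers d) := by
    constructor
    · rintro _ ⟨m, rfl⟩ _ ⟨n, rfl⟩
      exact Commute.zpow_zpow_self d m n
    · rintro _ ⟨m, rfl⟩
      show (d ^ m) ^ p = 1
      rw [← zpow_natCast, ← zpow_mul, mul_comm, zpow_mul, zpow_natCast, hD.exp d hdD, one_zpow]
  have hBle : zpowers a ⊔ zpowers d ≤ zpowers a ⊔ D :=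
    sup_le_sup_left (by rwa [zpowers_le]) _
  have hB : EA p (zpowers a ⊔ zpowers d) :=
    ⟨fun x hx y hy => hE.comm x (hBle hx) y (hBle hy), fun x hx => hE.exp x (hBle hx)⟩
  have hB2 : p ^ 2 ≤ Nat.card ↥(zpowers a ⊔ zpowers d) := by
    apply hB.card_pow
    rw [pow_one]
    have h1 : Nat.card (zpowers a) = p := by rw [Nat.card_zpowers, ha.1]
    rw [← h1]
    by_contra hle
    push Not at hle
    have h := Subgroup.eq_of_le_of_card_ge (le_sup_left : zpowers a ≤ zpowers a ⊔ zpowers d) hle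
    apply hd
    rw [h]
    exact (le_sup_right : zpowers d ≤ _) (mem_zpowers d)
  have hV : IsRankGraphVertex p 2 (zpowers a ⊔ zpowers d) := by
    refine ⟨hB.isEA, hB2, not_pRankLE (E := zpowers a ⊔ D) ?_ hE hE3⟩
    intro x hx
    rw [mem_centralizer_iff]
    intro y hy
    exact hE.comm y (hBle hy) x hx
  set B₀ := zpowers a ⊔ zpowers d with hB₀
  -- normal
  have hnorm : (W θ B₀).Normal := by
    constructor
    intro n hn g
    have h1 := W_conj F hV g
    rw [W_conn hS F hconn (vertex_conj hV g) hV] at h1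
    rw [h1]
    exact ⟨n, hn, rfl⟩
  have hpW : ¬ p ∣ Nat.card ↥(W θ B₀) := by
    obtain ⟨-, -, E, hBE, hE, h3⟩ := vertex_spec hV
    rw [W_eq hS F hE h3 hBE hB2]
    exact (closure_spec hS F hE h3).1
  have hle : W θ B₀ ≤ pPrimeCore p G :=
    le_pPrimeCore hnorm ((Nat.Prime.coprime_iff_not_dvd hp).mpr hpW).symm
  rw [hO] at hle
  rw [eq_bot_iff]
  have haB : a ∈ B₀ := (le_sup_left : zpowers a ≤ B₀) (mem_zpowers a)
  exact (le_W θ haB ha1).trans hle

end Cfsg.Agent.Lib.EqFun.Basic
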