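/-
The functor `a ↦ O_{p'}(C_G(a))` when the `p`-layers of the centralizers are trivial: balance,
equivariance, and the conclusion `F*(C_G(a)) = O_p(C_G(a))` once the cores vanish.
-/
import Cfsg.Agent.Lib.EqFun.Basic
import Cfsg.Agent.S1293
import Cfsg.Agent.Lib.Signal.BalanceFor

set_option autoImplicit false
set_option linter.unusedSectionVars false

namespace Cfsg.Agent.Lib.EqFun.Core

open Subgroup Cfsg Cfsg.Agent.Lib.Core.Basic Cfsg.Agent.Lib.EqFun.Basic
  Cfsg.Agent.Lib.Components.Basic Cfsg.Agent.Lib.Core.PSolvable2 Cfsg.Agent.Lib.Signal.Balance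
  Cfsg.Agent.Lib.Signal.Diag

universe u

variable {p : ℕ} [Fact p.Prime]

/-- `F*(X) = O_p(X)` when the `p`-layer and the `p'`-core of `X` are trivial. -/
theorem genFit_eq {X : Type u} [Group X] [Finite X] (hO : pPrimeCore p X = ⊥)
    (hL : pLayer p X = ⊥) : generalizedFittingSubgroup X = pCore p X := by
  have hp : p.Prime := Fact.out
  have hFit : fittingSubgroup X ≤ pCore p X := by
    apply le_pCore fittingSubgroup_normal
    exact Cfsg.Agent.Lib.CharP.Basic.isPGroup_of_nilpotent_subnormal
      (fun q hq hqp => Cfsg.Agent.Lib.Signal.MainLemma.pCore_eq_bot_of_ne hO hq hqp)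
      (fittingSubgroup_normal).isSubnormal fittingSubgroup_isNilpotent
  have hE : layer X = ⊥ := by
    have h1 := Cfsg.Agent.Lib.Signal.PComp.map_layer_le_layer (pPrimeCore p X)
    have h2 := Cfsg.Agent.Lib.Signal.PComp.map_pLayer (X := X) hp
    rw [hL, Subgroup.map_bot] at h2
    rw [← h2] at h1
    rw [eq_bot_iff]
    intro x hx
    have h3 : (QuotientGroup.mk' (pPrimeCore p X)) x = 1 := mem_bot.mp (h1 ⟨x, hx, rfl⟩)
    have h4 : x ∈ pPrimeCore p X := (QuotientGroup.eq_one_iff x).mp h3
    rwa [hO] at h4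
  rw [generalizedFittingSubgroup, hE, bot_sup_eq]
  exact le_antisymm hFit (pCore_le_fittingSubgroup p)

/-- When the `p`-layer of `X` is trivial, `O_{p'}(C_X(x)) ≤ O_{p'}(X)` for `x` of order `p`. -/
theorem centralizerCore_le {X : Type u} [Group X] [Finite X] (hL : pLayer p X = ⊥) {x : X}
    (hx : orderOf x = p) : centralizerPPrimeCore p x ≤ pPrimeCore p X := by
  have hp : p.Prime := Fact.out
  have hP : IsPGroup p (zpowers x) :=
    Cfsg.Agent.Lib.Signal.Basic.isPGroup_zpowers_of_pow_eq_one (by rw [← hx]; exact pow_orderOf_eq_one x)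
  have hP1 : zpowers x ≠ ⊥ := by
    intro h
    rw [zpowers_eq_bot] at h
    subst h
    rw [orderOf_one] at hx
    exact hp.one_lt.ne hx
  have h1 := (Cfsg.Agent.S1293.result p hL (zpowers x) hP hP1).2
  set N := normalizer (zpowers x : Set X) with hN
  have hCN : centralizerPPrimeCore p x ≤ N :=
    (centralizerPPrimeCore_le_centralizer x).trans
      (Cfsg.Agent.Lib.Signal.BalanceFor.centralizer_le_normalizer_zpowers x)
  have hnorm : ((centralizerPPrimeCore p x).subgroupOf N).Normal := by
    constructor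
    intro n hn g
    rw [mem_subgroupOf] at hn ⊢
    exact conj_mem_centralizerCore_of_normalizer g.2 hn
  have hcop : (Nat.card ((centralizerPPrimeCore p x).subgroupOf N)).Coprime p := by
    rw [coprime_card_iff_forall_orderOf]
    intro d hd
    have hd' : (d : X) ∈ centralizerPPrimeCore p x := mem_subgroupOf.mp hd
    obtain ⟨c, hc, hcd⟩ := hd'
    have h2 : (orderOf c).Coprime p := orderOf_coprime_of_mem_pPrimeCore hc
    rw [← Subgroup.orderOf_coe d, ← hcd]
    simpa using h2
  have h3 := le_pPrimeCore hnorm hcop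
  intro y hy
  apply h1
  exact ⟨⟨y, hCN hy⟩, h3 (mem_subgroupOf.mpr hy), rfl⟩

variable {G : Type u} [Group G] [Finite G]

/-- Balance for the functor. -/
theorem balance {a b : G} (hb : pLayer p ↥(centralizer ({b} : Set G)) = ⊥)
    (ha : orderOf a = p) (hab : a * b = b * a) :
    centralizerPPrimeCore p a ⊓ centralizer {b} ≤ centralizerPPrimeCore p b := by
  have hp : p.Prime := Fact.out
  set H := centralizer ({b} : Set G) with hH
  have haH : a ∈ H := by
    rw [hH, mem_centralizer_iff]
    intro t ht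
    rw [Set.mem_singleton_iff.mp ht]
    exact hab.symm
  set x : H := ⟨a, haH⟩ with hx
  have hxo : orderOf x = p := by
    rw [← Subgroup.orderOf_coe x]
    exact ha
  have h1 := centralizerCore_le hb hxo
  intro y hy
  obtain ⟨hy1, hy2⟩ := mem_inf.mp hy
  -- `y` as an element of `O_{p'}(C_H(x))`
  set CH := centralizer ({x} : Set H) with hCH
  set V : Subgroup CH := ((centralizerPPrimeCore p a).subgroupOf H).subgroupOf CH with hV
  have hVnorm : V.Normal := by
    constructor
    intro n hn g
    rw [hV, mem_subgroupOf, mem_subgroupOf] at hn ⊢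
    obtain ⟨c, hc, hcn⟩ := hn
    have hgC : ((g : H) : G) ∈ centralizer ({a} : Set G) := by
      rw [mem_centralizer_iff]
      intro t ht
      rw [Set.mem_singleton_iff.mp ht]
      have := mem_centralizer_iff.mp g.2 x (Set.mem_singleton x)
      exact congrArg Subtype.val this
    have hgc := (pPrimeCore_normal p ↥(centralizer ({a} : Set G))).conj_mem c hc ⟨_, hgC⟩
    refine ⟨_, hgc, ?_⟩
    simp only [Subgroup.coe_mul, InvMemClass.coe_inv, Subgroup.coe_subtype] at hcn ⊢
    rw [hcn]
  have hVcop : (Nat.card V).Coprime p := by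
    rw [coprime_card_iff_forall_orderOf]
    intro d hd
    have hd' : ((d : H) : G) ∈ centralizerPPrimeCore p a := mem_subgroupOf.mp (mem_subgroupOf.mp hd)
    obtain ⟨c, hc, hcd⟩ := hd'
    have h2 : (orderOf c).Coprime p := orderOf_coprime_of_mem_pPrimeCore hc
    rw [← Subgroup.orderOf_coe d, ← Subgroup.orderOf_coe (d : H), ← hcd]
    simpa using h2
  have h2 := le_pPrimeCore hVnorm hVcop
  have hyH : y ∈ H := hy2
  have hyC : (⟨y, hyH⟩ : H) ∈ CH := by
    rw [hCH, mem_centralizer_iff]
    intro t ht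
    rw [Set.mem_singleton_iff.mp ht]
    apply Subtype.ext
    exact (mem_centralizer_iff.mp (centralizerPPrimeCore_le_centralizer a hy1) a rfl)
  have h3 : (⟨⟨y, hyH⟩, hyC⟩ : CH) ∈ V := by
    rw [hV, mem_subgroupOf, mem_subgroupOf]
    exact hy1
  have h4 : (⟨y, hyH⟩ : H) ∈ centralizerPPrimeCore p x := ⟨_, h2 h3, rfl⟩
  exact ⟨_, h1 h4, rfl⟩

/-- The functor of `p'`-cores satisfies the hypotheses of `functor_trivial`. -/
theorem fun_core (hL : ∀ a : G, Adm p a → pLayer p ↥(centralizer ({a} : Set G)) = ⊥ ∧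
    Group.IsSolvable ↥(centralizerPPrimeCore p a)) :
    Fun p (fun a : G => centralizerPPrimeCore p a) := by
  have hp : p.Prime := Fact.out
  refine ⟨?_, ?_, ?_⟩
  · intro a ha
    refine ⟨centralizerPPrimeCore_le_centralizer a, ?_, (hL a ha).2⟩
    have hc : (Nat.card (pPrimeCore p ↥(centralizer ({a} : Set G)))).Coprime p := pPrimeCore_coprime
    have e : Nat.card ↥(centralizerPPrimeCore p a) =
        Nat.card (pPrimeCore p ↥(centralizer ({a} : Set G))) :=
      Nat.card_congr ((pPrimeCore p ↥(centralizer ({a} : Set G))).equivMapOfInjective _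
        (centralizer ({a} : Set G)).subtype_injective).toEquiv.symm
    rw [e]
    exact (Nat.Prime.coprime_iff_not_dvd hp).mp hc.symm
  · intro a g _
    apply le_antisymm
    · intro h hh
      refine ⟨g⁻¹ * h * g, ?_, by simp [mul_assoc]⟩
      have := Cfsg.Agent.Lib.Signal.BalanceFor.conj_mem_centralizerCore (p := p) (g := g⁻¹) hh
      simpa [mul_assoc] using this
    · rintro _ ⟨h, hh, rfl⟩
      exact Cfsg.Agent.Lib.Signal.BalanceFor.conj_mem_centralizerCore hh
  · intro a b ha hb hab
    exact balance (hL b hb).1 ha.1 hab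

/-- The result for `p'`-cores, granted the solvable signalizer functor theorem. -/
theorem genFit_centralizer (hS : SSFTOn G p) (hO : pPrimeCore p G = ⊥)
    (hconn : IsRankGraphConnected p 2 G)
    (hL : ∀ a : G, Adm p a → pLayer p ↥(centralizer ({a} : Set G)) = ⊥ ∧
      Group.IsSolvable ↥(centralizerPPrimeCore p a))
    {a : G} (ha : Adm p a) :
    generalizedFittingSubgroup ↥(centralizer ({a} : Set G)) = pCore p ↥(centralizer ({a} : Set G)) := by
  have h1 := functor_trivial hS hO hconn (fun_core hL) ha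
  apply genFit_eq _ (hL a ha).1
  rw [eq_bot_iff]
  intro c hc
  have h2 : (c : G) ∈ centralizerPPrimeCore p a := ⟨c, hc, rfl⟩
  change (c : G) ∈ centralizerPPrimeCore p a at h2
  rw [show centralizerPPrimeCore p a = ⊥ from h1] at h2
  exact mem_bot.mpr (Subtype.ext (mem_bot.mp h2))

end Cfsg.Agent.Lib.EqFun.Core
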